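import Groth.Agent.AgPol.K521.DualDesc
import Groth.Agent.AgPol.K515.QuotAb
import Groth.Agent.Ega2.RelAmp
import Groth.Agent.CohqB.AmpGeneric

/-!
# Existence of the dual abelian scheme

* `isRelAmple_twist` : twisting by an invertible module from the base preserves relative ampleness;
* `exists_dual` : an abelian scheme `A` over `S` with a relatively ample module `L`, rigidified along the unit section
  and satisfying `(G)`, has a dual abelian scheme, `At = A / K(L)`.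
* `exists_dual'` : the same for unrigidified `L`.
-/

set_option autoImplicit false
universe u

open CategoryTheory Limits MonoidalCategory CartesianMonoidalCategory AlgebraicGeometry
open scoped MonObj

namespace K521.Dual

open Groth.Agent.Grpsch.PicGrp Groth.Agent.Fga.RigGrp K732.PicZero K732.Prim K732.Dual K732.CubeSec
open K528.MumZero K814.MumHom K732.Cov K732.RigSheaf K521.DualMum K521.DualDesc

section twist

open Groth.Agent.Ega2.Ample

variable {X S : Scheme.{u}} {f : X ⟶ S}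

/-- Relative ampleness only depends on the class modulo classes from the base. -/
theorem isRelAmple_twist {L L' : X.Modules} (hL : RelAmple.IsRelAmple f L) (hLi : PicF.IsInvertible L)
    (hLi' : PicF.IsInvertible L') (n : Pic S) (h : mk L' hLi' = mk L hLi * pull f n) :
    RelAmple.IsRelAmple f L' := by
  refine Groth.Agent.Ega2.RelAmp.isRelAmple_of_forall_exists fun s ↦ ?_
  obtain ⟨U, hsU, hU⟩ := Groth.Agent.Picfga.PicBridge.exists_open_pull_eq_one n s
  obtain ⟨V, hV, hsV, hVU⟩ := exists_isAffineOpen_mem_and_subset (X := S) hsU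
  refine ⟨V, hV, hsV, ?_⟩
  rw [← isAmple_restrict_ι_iff, Groth.Agent.CohqB.AmpCocycle.isAmple_restrict_iff]
  have h1 := hL.2 ⟨V, hV⟩
  rw [Groth.Agent.CohqB.AmpCocycle.isAmple_restrict_iff] at h1
  have hn : pull (Scheme.Opens.ι (X := S) V) n = 1 := by
    have e : Scheme.Opens.ι (X := S) V = S.homOfLE (show V ≤ U from hVU) ≫ U.ι := (S.homOfLE_ι _).symm
    rw [e, pull_comp, hU, map_one]
  have h2 : pull (f ⁻¹ᵁ V).ι (mk L' hLi') = pull (f ⁻¹ᵁ V).ι (mk L hLi) := by
    rw [h, map_mul, ← pull_comp, ← morphismRestrict_ι, pull_comp, hn, map_one, _root_.mul_one]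
  rw [pull_mk, pull_mk, mk_eq_iff] at h2
  obtain ⟨e⟩ := h2
  exact Groth.Agent.CohqB.AmpCocycle.isAmple_of_iso e.symm h1

end twist

theorem aux_comm {G : Type*} [CommGroup G] (P Q R N : G) :
    P * N * (Q * N)⁻¹ * (R * N)⁻¹ = P * Q⁻¹ * R⁻¹ * N⁻¹ := by
  calc P * N * (Q * N)⁻¹ * (R * N)⁻¹ = P * Q⁻¹ * R⁻¹ * N⁻¹ * (N * N⁻¹) := by
        rw [mul_inv, mul_inv]
        ac_rfl
    _ = _ := by rw [mul_inv_cancel, _root_.mul_one]

section main

variable {S : Scheme.{u}} {A : Over S} [GrpObj A] [IsCommMonObj A] {g : ℕ} (hA : AgPol.IsAbSch A g)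

include hA

/-- **Existence of the dual abelian scheme**, rigidified form. -/
theorem exists_dual {L : A.left.Modules} (hL : PicF.IsInvertible L) (hrel : RelAmple.IsRelAmple A.hom L)
    (hc : pull (η[A] : 𝟙_ (Over S) ⟶ A).left (mk L hL) = 1) (hG : G A (mk L hL)) :
    ∃ (At : Over S) (_ : GrpObj At) (_ : IsCommMonObj At) (q : A ⟶ At) (_ : IsMonHom q)
      (φ : ∀ T : Over S, PicF.Cl (PicF.XT A.hom T) → (T ⟶ At)) (ξ : Pic (PicF.XT A.hom At)),
      AgPol.IsAbSch At g ∧ AbDual.IsDualAV Scheme.fppfPrecoverage A At φ ∧ ξ ∈ pz A.hom At ∧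
      ξ ∈ rg A At ∧ cm φ ξ = 𝟙 At ∧ pull (PicF.XTmap A.hom q) ξ = mumCl A (mk L hL) ∧
      K814.MumHom.hom φ (mk L hL) = q ∧ (IsFinite q.left ∧ Flat q.left ∧
      LocallyOfFinitePresentation q.left ∧ Surjective q.left) := by
  have i1 := hA.smooth
  have i2 := hA.proper
  have i3 : GeometricallyIntegral A.hom := K451.Prod.geometricallyIntegral_of_isAbSch hA
  obtain ⟨K, gK, i, h1, h2, h3, h4, h5, h6, h7, h8, h9⟩ := exists_ker hc hG
  obtain ⟨At, gAt, cAt, q, hq, q1, q2, q3, q4, q5, q6, q7, q8, -⟩ :=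
    K515.QuotAb.exists_quot (A := A) (K := K) i hA L hrel
  obtain ⟨ξ, φ, hφ, hξ1, hξ2, hξ3, hξ4, hξ5⟩ := K521.DualDesc.exists_dual hc hG q (fun T a b ↦ by
    rw [q8, ← h9, pull_mul_inv hc])
  exact ⟨At, gAt, cAt, q, hq, φ, ξ, q5, hφ, hξ1, hξ2, hξ3, hξ4, hξ5, q1, q2, q3, q4⟩

/-- **Existence of the dual abelian scheme**. -/
theorem exists_dual' {L : A.left.Modules} (hL : PicF.IsInvertible L) (hrel : RelAmple.IsRelAmple A.hom L)
    (hG : ∀ (L' : A.left.Modules) (hL' : PicF.IsInvertible L'), RelAmple.IsRelAmple A.hom L' →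
      pull (η[A] : 𝟙_ (Over S) ⟶ A).left (mk L' hL') = 1 → G A (mk L' hL')) :
    ∃ (At : Over S) (_ : GrpObj At) (_ : IsCommMonObj At)
      (φ : ∀ T : Over S, PicF.Cl (PicF.XT A.hom T) → (T ⟶ At)) (ξ : Pic (PicF.XT A.hom At)),
      AgPol.IsAbSch At g ∧ AbDual.IsDualAV Scheme.fppfPrecoverage A At φ ∧ ξ ∈ pz A.hom At ∧
      ξ ∈ rg A At ∧ cm φ ξ = 𝟙 At ∧ IsMonHom (K814.MumHom.hom φ (mk L hL)) ∧
      (IsFinite (K814.MumHom.hom φ (mk L hL)).left ∧ Flat (K814.MumHom.hom φ (mk L hL)).left ∧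
      LocallyOfFinitePresentation (K814.MumHom.hom φ (mk L hL)).left ∧
      Surjective (K814.MumHom.hom φ (mk L hL)).left) := by
  obtain ⟨n, hn⟩ : ∃ n : Pic S, n = (pull (η[A] : 𝟙_ (Over S) ⟶ A).left (mk L hL))⁻¹ := ⟨_, rfl⟩
  obtain ⟨L', hL', hLn⟩ := exists_mk (mk L hL * pull A.hom n)
  have hη : (η[A] : 𝟙_ (Over S) ⟶ A).left ≫ A.hom = 𝟙 S := Over.w η[A]
  have hc : pull (η[A] : 𝟙_ (Over S) ⟶ A).left (mk L' hL') = 1 := by
    rw [← hLn, map_mul]
    erw [← pull_comp, hη, pull_id]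
    rw [hn]
    exact mul_inv_cancel _
  have hrel' := isRelAmple_twist hrel hL hL' n hLn.symm
  obtain ⟨At, gAt, cAt, q, hq, φ, ξ, h1, h2, h3, h4, h5, h6, h7, h8⟩ :=
    exists_dual hA hL' hrel' hc (hG L' hL' hrel' hc)
  have i1 := hA.smooth
  have i2 := hA.proper
  have i3 : GeometricallyIntegral A.hom := K451.Prod.geometricallyIntegral_of_isAbSch hA
  have e : K814.MumHom.hom φ (mk L hL) = q := by
    rw [← h7]
    have e1 : mumCl A (mk L' hL') = mumCl A (mk L hL) * pull (PicF.XTproj A.hom A) (pull A.hom n)⁻¹ := by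
      refine ext_ev fun W a b ↦ ?_
      have hp : ∀ x : W ⟶ A, pull x.left (pull A.hom n) = pull W.hom n := by
        intro x
        rw [← pull_comp, Over.w]
      rw [map_mul, ev_XTproj, ev_mum, ev_mum, ← hLn, map_mul, map_mul, map_mul, hp, hp, hp, map_inv, hp]
      exact aux_comm _ _ _ _
    rw [hom, hom, e1, cm_mul h2 (mum_pz _) (pull_XTproj_mem _), cm_base h2, _root_.mul_one]
  exact ⟨At, gAt, cAt, φ, ξ, h1, h2, h3, h4, h5, e ▸ hq, e ▸ h8⟩

end main

end K521.Dual
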