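import Groth.Agent.AgPol.K521.DualMum
import Groth.Agent.AbDual.K732.Constr

/-!
# The dual abelian scheme from the quotient by `K(c)`

`A` an abelian scheme over any scheme `S`, `c` a class on `A` with `c(1) = 1` and `(G)`; `q : A ⟶ At` a finite locally
free surjective homomorphism with kernel `K(c)`.  Then `At` is the dual of `A`: the Mumford class descends to a
universal class.

* `exists_dual` : the Poincaré class `ξ` with `(1 × q)^* ξ = m`, `φ`, `IsDualAV`, `hom φ c = q`.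
-/

set_option autoImplicit false
universe u

open CategoryTheory Limits MonoidalCategory CartesianMonoidalCategory AlgebraicGeometry
open scoped MonObj

namespace K521.DualDesc

open Groth.Agent.Grpsch.PicGrp Groth.Agent.Fga.RigGrp K732.PicZero K732.Prim K732.Dual K732.CubeSec
open K528.MumZero K814.MumHom K732.Cov K732.RigSheaf K521.DualMum

section lift

variable {S : Scheme.{u}} {A At : Over S} (q : A ⟶ At) [Flat q.left] [LocallyOfFinitePresentation q.left]
  [Surjective q.left]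

/-- Points of `At` lift to points of `A` fppf-locally. -/
theorem exists_lift {T : Over S} (g : T ⟶ At) : ∃ (T' : Over S) (t : T' ⟶ T) (b : T' ⟶ A),
    Flat t.left ∧ LocallyOfFinitePresentation t.left ∧ Surjective t.left ∧ b ≫ q = t ≫ g := by
  refine ⟨Over.mk (pullback.fst g.left q.left ≫ T.hom), Over.homMk (pullback.fst g.left q.left) rfl,
    Over.homMk (pullback.snd g.left q.left) ?_, ?_, ?_, ?_, ?_⟩
  · change pullback.snd g.left q.left ≫ A.hom = pullback.fst g.left q.left ≫ T.hom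
    rw [← Over.w q, ← Over.w g, pullback.condition_assoc]
  · exact inferInstanceAs (Flat (pullback.fst g.left q.left))
  · exact inferInstanceAs (LocallyOfFinitePresentation (pullback.fst g.left q.left))
  · exact inferInstanceAs (Surjective (pullback.fst g.left q.left))
  · ext1
    exact pullback.condition.symm

/-- Two points of `At` lift to points of `A` fppf-locally. -/
theorem exists_lift₂ {T : Over S} (g h : T ⟶ At) : ∃ (T' : Over S) (t : T' ⟶ T) (b d : T' ⟶ A),
    Flat t.left ∧ LocallyOfFinitePresentation t.left ∧ Surjective t.left ∧ b ≫ q = t ≫ g ∧ d ≫ q = t ≫ h := by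
  obtain ⟨T₁, t₁, b, h1, h2, h3, h4⟩ := exists_lift q g
  obtain ⟨T₂, t₂, d, h5, h6, h7, h8⟩ := exists_lift q (t₁ ≫ h)
  refine ⟨T₂, t₂ ≫ t₁, t₂ ≫ b, d, ?_, ?_, ?_, ?_, ?_⟩
  · rw [Over.comp_left]; infer_instance
  · rw [Over.comp_left]; infer_instance
  · rw [Over.comp_left]; infer_instance
  · rw [Category.assoc, h4, Category.assoc]
  · rw [h8, Category.assoc]

end lift

section main

variable {S : Scheme.{u}} {A At : Over S} [GrpObj A] [IsCommMonObj A] [GrpObj At]
  [IsProper A.hom] [Flat A.hom] [LocallyOfFinitePresentation A.hom] [GeometricallyIntegral A.hom]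
  {c : Pic A.left} (hc : pull (η[A] : 𝟙_ (Over S) ⟶ A).left c = 1) (hG : G A c)
  (q : A ⟶ At) [IsMonHom q] [Flat q.left] [LocallyOfFinitePresentation q.left] [Surjective q.left]
  (hq : ∀ (T : Over S) (a b : T ⟶ A), a ≫ q = b ≫ q ↔
    pull (PicF.XTmap A.hom a) (mumCl A c) = pull (PicF.XTmap A.hom b) (mumCl A c))

include hc hq

omit [IsCommMonObj A] [GrpObj At] [IsMonHom q] in
/-- **The Mumford class descends.** -/
theorem exists_desc : ∃ ξ : Pic (PicF.XT A.hom At), ξ ∈ pz A.hom At ∧ ξ ∈ rg A At ∧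
    pull (PicF.XTmap A.hom q) ξ = mumCl A c := by
  obtain ⟨ξ, h1, h2⟩ := rg_glue (Over.w η[A]) (bijective_XTproj A.hom) (single q) (fun _ ↦ mumCl A c)
    (fun _ ↦ mum_mem_rg hc) (fun _ _ W a b hab ↦ (hq W a b).1 hab)
  refine ⟨ξ, mem_of_cov (single q) fun i ↦ ?_, h1, h2 ⟨⟩⟩
  rw [h2 i]
  exact mum_pz c

variable {ξ : Pic (PicF.XT A.hom At)} (h2 : ξ ∈ rg A At) (h3 : pull (PicF.XTmap A.hom q) ξ = mumCl A c)

omit [IsCommMonObj A] [GrpObj At] [IsProper A.hom] [Flat A.hom] [LocallyOfFinitePresentation A.hom]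
  [GeometricallyIntegral A.hom] hc [IsMonHom q] [Flat q.left] [LocallyOfFinitePresentation q.left]
  [Surjective q.left] hq in
include h3 in
theorem pull_of_lift {T : Over S} (b : T ⟶ A) :
    pull (PicF.XTmap A.hom (b ≫ q)) ξ = pull (PicF.XTmap A.hom b) (mumCl A c) := by
  rw [XTmap_comp, pull_comp, h3]

include h2 h3

/-- The descended class is multiplicative. -/
theorem pull_mul_desc {T : Over S} (g h : T ⟶ At) : pull (PicF.XTmap A.hom (g * h)) ξ =
    pull (PicF.XTmap A.hom g) ξ * pull (PicF.XTmap A.hom h) ξ := by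
  obtain ⟨T', t, b, d, i1, i2, i3, e1, e2⟩ := exists_lift₂ q g h
  refine rg_ext (Over.w η[A]) (bijective_XTproj A.hom) (single t) (pull_mem _ h2)
    (mul_mem (pull_mem _ h2) (pull_mem _ h2)) fun _ ↦ ?_
  change pull (PicF.XTmap A.hom t) _ = pull (PicF.XTmap A.hom t) _
  rw [map_mul, ← pull_comp, ← pull_comp, ← pull_comp, ← XTmap_comp, ← XTmap_comp, ← XTmap_comp,
    MonObj.comp_mul, ← e1, ← e2, ← MonObj.mul_comp, pull_of_lift q h3, pull_of_lift q h3,
    pull_of_lift q h3, DualMum.pull_mul hc]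

/-- Uniqueness. -/
theorem eq_of_pull_eq {T : Over S} (g h : T ⟶ At)
    (H : pull (PicF.XTmap A.hom g) ξ = pull (PicF.XTmap A.hom h) ξ) : g = h := by
  obtain ⟨T', t, b, d, i1, i2, i3, e1, e2⟩ := exists_lift₂ q g h
  refine (single t).hom_ext fun _ ↦ ?_
  change t ≫ g = t ≫ h
  rw [← e1, ← e2, hq, ← pull_of_lift q h3, ← pull_of_lift q h3, e1, e2, XTmap_comp,
    XTmap_comp, pull_comp, pull_comp, H]

include hG

/-- The universal property. -/
theorem existsUnique {T : Over S} (d : Pic (PicF.XT A.hom T)) (hd : d ∈ pz A.hom T) (hd' : d ∈ rg A T) :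
    ∃! g : T ⟶ At, pull (PicF.XTmap A.hom g) ξ = d := by
  obtain ⟨Gam, z, a, i1, i2, i3, i4, e1, -⟩ := hG T d hd hd'
  have hcompat : ∀ (W : Over S) (x y : W ⟶ Gam), x ≫ z = y ≫ z → x ≫ a ≫ q = y ≫ a ≫ q := by
    intro W x y hxy
    rw [← Category.assoc, ← Category.assoc, hq, XTmap_comp, XTmap_comp, pull_comp, pull_comp, e1,
      ← pull_comp, ← pull_comp, ← XTmap_comp, ← XTmap_comp, hxy]
  obtain ⟨g, hg⟩ := (single z).glue_hom (Y := At) (fun _ ↦ a ≫ q) (fun _ _ W x y hxy ↦ hcompat W x y hxy)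
  have hg1 : z ≫ g = a ≫ q := hg ⟨⟩
  have key : pull (PicF.XTmap A.hom g) ξ = d := by
    refine rg_ext (Over.w η[A]) (bijective_XTproj A.hom) (single z) (pull_mem _ h2) hd' fun _ ↦ ?_
    change pull (PicF.XTmap A.hom z) _ = pull (PicF.XTmap A.hom z) _
    rw [← pull_comp, ← XTmap_comp, hg1, pull_of_lift q h3, e1]
  refine ⟨g, key, fun g' hg' ↦ eq_of_pull_eq hc q hq h2 h3 _ _ (Eq.trans hg' key.symm)⟩

omit h2 h3

/-- **Existence of the dual.** -/
theorem exists_dual : ∃ (ξ : Pic (PicF.XT A.hom At)) (φ : ∀ T : Over S, PicF.Cl (PicF.XT A.hom T) → (T ⟶ At)),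
    AbDual.IsDualAV Scheme.fppfPrecoverage A At φ ∧ ξ ∈ pz A.hom At ∧ ξ ∈ rg A At ∧ cm φ ξ = 𝟙 At ∧
      pull (PicF.XTmap A.hom q) ξ = mumCl A c ∧ K814.MumHom.hom φ c = q := by
  obtain ⟨ξ, h1, h2, h3⟩ := exists_desc hc q hq
  obtain ⟨φ, hφ, -, hφ1⟩ := K732.Constr.exists_isDualAV ξ h1 h2
    (fun T d hd hd' ↦ existsUnique hc hG q hq h2 h3 d hd hd')
    (fun T g h ↦ pull_mul_desc hc q hq h2 h3 g h)
  refine ⟨ξ, φ, hφ, h1, h2, hφ1, h3, ?_⟩
  rw [K814.MumHom.hom, ← h3, cm_pull hφ _ h1, hφ1, Category.comp_id]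

end main

end K521.DualDesc
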