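import Groth.Agent.AgPol.K814.MumHom
import Groth.Agent.Sga3.H828.SubgrpObj
import Groth.Agent.Sga3.H830.CommAux

/-!
# The Mumford class is bimultiplicative; the group scheme `K(c)`

`A` an abelian scheme over any scheme `S`, `c` a class on `A` with `c(1) = 1`, `m = mumCl A c` on `A ×_S A`.

* `ev_symm`, `pull_mul`, `pull_inv` : `m` is symmetric, `b ↦ (1 × b)^* m` is multiplicative;
* `G A c` : the statement on the existence of the correspondences `Γ_d` used for the construction of the dual;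
* `exists_ker` : from `G A c`, the group scheme `K(c)` as a finite flat closed subgroup scheme of `A`.
-/

set_option autoImplicit false
universe u

open CategoryTheory Limits MonoidalCategory CartesianMonoidalCategory AlgebraicGeometry
open scoped MonObj

namespace K521.DualMum

open Groth.Agent.Grpsch.PicGrp Groth.Agent.Fga.RigGrp K732.PicZero K732.Prim K732.Dual K732.CubeSec
open K528.MumZero K814.MumHom

section mum

variable {S : Scheme.{u}} {A : Over S} [GrpObj A]

lemma ev_symm [IsCommMonObj A] (c : Pic A.left) {W : Over S} (x y : W ⟶ A) :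
    ev x y (mumCl A c) = ev y x (mumCl A c) := by
  rw [ev_mum, ev_mum, mul_comm x y, mul_right_comm]

variable [IsProper A.hom] [Flat A.hom] [LocallyOfFinitePresentation A.hom] [GeometricallyIntegral A.hom]
  [IsCommMonObj A] {c : Pic A.left} (hc : pull (η[A] : 𝟙_ (Over S) ⟶ A).left c = 1)

include hc

/-- `b ↦ (1 × b)^* m` is multiplicative. -/
lemma pull_mul {W : Over S} (a b : W ⟶ A) : pull (PicF.XTmap A.hom (a * b)) (mumCl A c) =
    pull (PicF.XTmap A.hom a) (mumCl A c) * pull (PicF.XTmap A.hom b) (mumCl A c) := by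
  refine ext_ev fun V x g ↦ ?_
  rw [map_mul, ev_XTmap, ev_XTmap, ev_XTmap, ev_symm, ev_symm c x (g ≫ a), ev_symm c x (g ≫ b),
    MonObj.comp_mul]
  exact K814.PrimGeom.prim (mum_pz c) (mum_mem_rg hc) _ _ _

lemma pull_one {W : Over S} : pull (PicF.XTmap A.hom (1 : W ⟶ A)) (mumCl A c) = 1 := by
  have h := pull_mul hc (1 : W ⟶ A) 1
  rw [_root_.one_mul] at h
  exact mul_eq_left.1 h.symm

lemma pull_inv {W : Over S} (a : W ⟶ A) : pull (PicF.XTmap A.hom a⁻¹) (mumCl A c) =
    (pull (PicF.XTmap A.hom a) (mumCl A c))⁻¹ := by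
  have h := pull_mul hc a a⁻¹
  rw [mul_inv_cancel, pull_one hc] at h
  exact eq_inv_of_mul_eq_one_right h.symm

lemma pull_mul_inv {W : Over S} (a b : W ⟶ A) : pull (PicF.XTmap A.hom (a * b⁻¹)) (mumCl A c) = 1 ↔
    pull (PicF.XTmap A.hom a) (mumCl A c) = pull (PicF.XTmap A.hom b) (mumCl A c) := by
  rw [pull_mul hc, pull_inv hc, mul_inv_eq_one]

end mum

/-- **(G)**: for all rigidified `Pic⁰` classes `d` on `A_T` the correspondence `Γ_d` of the points `b` of `A` with
`(1 × b)^* m = d` is finite, flat, of finite presentation and surjective over `T`. -/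
def G {S : Scheme.{u}} (A : Over S) [GrpObj A] (c : Pic A.left) : Prop :=
  ∀ (T : Over S) (d : Pic (PicF.XT A.hom T)), d ∈ pz A.hom T → d ∈ rg A T →
    ∃ (Gam : Over S) (z : Gam ⟶ T) (a : Gam ⟶ A), IsFinite z.left ∧ Flat z.left ∧
      LocallyOfFinitePresentation z.left ∧ Surjective z.left ∧
      pull (PicF.XTmap A.hom a) (mumCl A c) = pull (PicF.XTmap A.hom z) d ∧
      ∀ (W : Over S) (b : W ⟶ A) (t : W ⟶ T),
        pull (PicF.XTmap A.hom b) (mumCl A c) = pull (PicF.XTmap A.hom t) d →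
          ∃! w : W ⟶ Gam, w ≫ z = t ∧ w ≫ a = b

section ker

variable {S : Scheme.{u}} {A : Over S} [GrpObj A] [IsCommMonObj A]
  [IsProper A.hom] [Flat A.hom] [LocallyOfFinitePresentation A.hom] [GeometricallyIntegral A.hom]
  {c : Pic A.left} (hc : pull (η[A] : 𝟙_ (Over S) ⟶ A).left c = 1)

/-- The subgroups of the groups of points where the Mumford class vanishes. -/
noncomputable def P (X : Over S) : Subgroup (X ⟶ A) where
  carrier := {b | pull (PicF.XTmap A.hom b) (mumCl A c) = 1}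
  one_mem' := pull_one hc
  mul_mem' := fun {a b} (ha : pull (PicF.XTmap A.hom a) (mumCl A c) = 1)
      (hb : pull (PicF.XTmap A.hom b) (mumCl A c) = 1) ↦ by
    change pull (PicF.XTmap A.hom (a * b)) (mumCl A c) = 1
    rw [pull_mul hc, ha, hb, _root_.mul_one]
  inv_mem' := fun {a} (ha : pull (PicF.XTmap A.hom a) (mumCl A c) = 1) ↦ by
    change pull (PicF.XTmap A.hom a⁻¹) (mumCl A c) = 1
    rw [pull_inv hc, ha, inv_one]

lemma mem_P {X : Over S} {b : X ⟶ A} : b ∈ P hc X ↔ pull (PicF.XTmap A.hom b) (mumCl A c) = 1 := Iff.rfl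

lemma comp_mem_P {X Y : Over S} (f : Y ⟶ X) (b : X ⟶ A) (h : b ∈ P hc X) : f ≫ b ∈ P hc Y := by
  rw [mem_P] at h ⊢
  rw [XTmap_comp, pull_comp, h, map_one]

include hc

/-- **The group scheme `K(c)`**. -/
theorem exists_ker (hG : G A c) : ∃ (K : Over S) (_ : GrpObj K) (i : K ⟶ A), IsMonHom i ∧ Mono i ∧
    IsClosedImmersion i.left ∧ IsFinite K.hom ∧ Flat K.hom ∧ LocallyOfFinitePresentation K.hom ∧
    Surjective K.hom ∧ IsCommMonObj K ∧
    ∀ (W : Over S) (b : W ⟶ A), pull (PicF.XTmap A.hom b) (mumCl A c) = 1 ↔ ∃ w : W ⟶ K, w ≫ i = b := by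
  obtain ⟨K, z, i, h1, h2, h3, h4, h5, h6⟩ := hG (𝟙_ (Over S)) 1 (one_mem _) (one_mem _)
  rw [map_one] at h5
  have h7 : ∀ (W : Over S) (b : W ⟶ A), pull (PicF.XTmap A.hom b) (mumCl A c) = 1 ↔
      ∃ w : W ⟶ K, w ≫ i = b := by
    intro W b
    constructor
    · intro hb
      obtain ⟨w, hw, -⟩ := h6 W b (toUnit W) (by rw [hb, map_one])
      exact ⟨w, hw.2⟩
    · rintro ⟨w, rfl⟩
      rw [XTmap_comp, pull_comp, h5, map_one]
  have hi : Mono i := by
    refine ⟨fun {W} x y hxy ↦ ?_⟩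
    obtain ⟨w, -, hw⟩ := h6 W (x ≫ i) (toUnit W) (by rw [XTmap_comp, pull_comp, h5, map_one, map_one])
    rw [hw x ⟨toUnit_unique _ _, rfl⟩, hw y ⟨toUnit_unique _ _, hxy.symm⟩]
  have hz : z.left = K.hom := (Category.comp_id _).symm.trans (Over.w z)
  rw [hz] at h1 h2 h3 h4
  obtain ⟨hK, hiK⟩ := Groth.Agent.Sga3.H828.SubgrpObj.exists_grpObj (P hc) (comp_mem_P hc) i
    (fun X x ↦ h7 X x)
  have hcomm : IsCommMonObj K := Groth.Agent.Sga3.H830.CommAux.isCommMonObj_of_mono i
  have hcl : IsClosedImmersion i.left := by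
    have hf : IsFinite i.left := by
      have : IsFinite (i.left ≫ A.hom) := by rw [Over.w]; exact h1
      exact IsFinite.of_comp i.left A.hom
    have hm : Mono i.left := inferInstance
    rw [IsClosedImmersion.iff_isFinite_and_mono]
    exact ⟨hf, hm⟩
  exact ⟨K, hK, i, hiK, hi, hcl, h1, h2, h3, h4, hcomm, h7⟩

end ker

end K521.DualMum
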