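import Groth.Agent.AgPol.K521.Dual
import Groth.Agent.AgPol.K117.Nodes
import Groth.Agent.EGA2.K34.RelAmpInv

/-!
# `Node.Dual` from `(G)`
-/

set_option autoImplicit false
universe u

open CategoryTheory Limits MonoidalCategory CartesianMonoidalCategory AlgebraicGeometry
open scoped MonObj

namespace K521.NodeDual

open Groth.Agent.Grpsch.PicGrp

/-- **DUAL** from the existence of the correspondences `Γ_d`. -/
theorem main (hG : ∀ (S : Scheme.{u}) [IsLocallyNoetherian S] (A : Over S) [GrpObj A] [IsCommMonObj A] (g : ℕ),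
    AgPol.IsAbSch A g → ∀ (L : A.left.Modules) (hL : PicF.IsInvertible L), RelAmple.IsRelAmple A.hom L →
      pull (η[A] : 𝟙_ (Over S) ⟶ A).left (mk L hL) = 1 → K521.DualMum.G A (mk L hL)) :
    K117.Ag.Node.Dual.{u} := by
  intro S _ A _ _ g hA L hL
  obtain ⟨At, h1, h2, φ, ξ, h3, h4, -⟩ := K521.Dual.exists_dual' hA
    (K34.RelAmpInv.isInvertible_of_isRelAmple A.hom hL) hL
    (fun L' hL' h h' ↦ hG S A g hA L' hL' h h')
  exact ⟨At, h1, h2, φ, h4, h3⟩

end K521.NodeDual
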